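import Mathlib
import Cfsg.Agent.H989.Fx.OmE
import Cfsg.Agent.H847.IF.Abs

/-!
# S5719, orthogonal groups, `q` odd: the radical of a totally singular line, relative bound for `SL₂` (helper254)

* `sl2_rel` : the relative bound for `SL₂(q)`;
* `th Q e₁ e₂ a b c = S e₁ a * S e₂ b * S e₁ (c e₂)`, `th_ap`, `th_mul`, `th_inj`, `th_inv`, `RW`, `S_comb`, `conj_RW`.
-/

set_option autoImplicit false
set_option maxHeartbeats 400000
set_option linter.unusedSimpArgs false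
set_option linter.unusedVariables false
set_option linter.unusedSectionVars false

namespace Cfsg.Agent.H254.IF

open QuadraticMap Cfsg.Agent.LieClassical Cfsg.Agent.LieClassical.OrthCore Cfsg.Agent.LieClassical.OrthTrans
  Cfsg.Agent.LieClassical.OrthSimple Cfsg.Agent.AutOrth.SemiSim Cfsg.Agent.AutOrth.Gen
  Cfsg.Agent.H989.Gs.Gen Cfsg.Agent.H989.Fx
open Cfsg.Agent.UGT.U2.FOne.Orth (Four tl tl_comb siegel_eq_tl)
open Cfsg.Agent.LieClassical.SLTwoUnipotent (u l coe_u coe_l)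
open Matrix (SpecialLinearGroup)

variable {F V : Type*} [Field F] [AddCommGroup V] [Module F V] {Q : QuadraticForm F V}

/-! ### the relative bound for `SL₂` -/

section SL2

/-- upper unipotent elements -/
def uHom (F : Type*) [Field F] : Multiplicative F →* SpecialLinearGroup (Fin 2) F where
  toFun a := u a.toAdd
  map_one' := SLTwoUnipotent.u_zero
  map_mul' a b := SLTwoUnipotent.u_add _ _

/-- lower unipotent elements -/
def lHom (F : Type*) [Field F] : Multiplicative F →* SpecialLinearGroup (Fin 2) F where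
  toFun a := l a.toAdd
  map_one' := SLTwoUnipotent.l_zero
  map_mul' a b := SLTwoUnipotent.l_add _ _

theorem uHom_inj : Function.Injective (uHom F) := by
  intro a b hab
  have h1 : (u a.toAdd : SpecialLinearGroup (Fin 2) F).1 0 1 = (u b.toAdd : SpecialLinearGroup (Fin 2) F).1 0 1 :=
    congrArg (fun x : SpecialLinearGroup (Fin 2) F => x.1 0 1) hab
  rw [coe_u, coe_u] at h1
  simpa using h1

theorem lHom_inj : Function.Injective (lHom F) := by
  intro a b hab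
  have h1 : (l a.toAdd : SpecialLinearGroup (Fin 2) F).1 1 0 = (l b.toAdd : SpecialLinearGroup (Fin 2) F).1 1 0 :=
    congrArg (fun x : SpecialLinearGroup (Fin 2) F => x.1 1 0) hab
  rw [coe_l, coe_l] at h1
  simpa using h1

theorem odd_card_of_two [Finite F] (h2 : (2 : F) ≠ 0) : Odd (Nat.card F) := by
  cases nonempty_fintype F
  rw [Nat.card_eq_fintype_card, Nat.odd_iff]
  apply FiniteField.odd_card_of_char_ne_two
  intro h
  apply h2
  have : CharP F 2 := by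
    have := ringChar.charP F
    rwa [h] at this
  exact_mod_cast CharP.cast_eq_zero F 2

/-- **the relative bound for `SL₂(q)`, `q` odd** -/
theorem sl2_rel [Finite F] (h2 : (2 : F) ≠ 0) {Γ : Type*} [Group Γ] [Finite Γ] (Z' : Set Γ)
    (hZ2 : ∀ z ∈ Z', z * z = 1) (hZc : ∀ g : Γ, ∀ z ∈ Z', g * z * g⁻¹ ∈ Z') (c : ℕ)
    (hc : ∀ Y : Subgroup Γ, (∀ y ∈ Y, y ∉ Z') → c ≤ Y.index) (Y : Subgroup (SpecialLinearGroup (Fin 2) F × Γ))
    (hY1 : ∀ A : SpecialLinearGroup (Fin 2) F, A.1 = -1 → ((A, 1) : SpecialLinearGroup (Fin 2) F × Γ) ∉ Y)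
    (hY2 : ∀ z ∈ Z', ((1, z) : SpecialLinearGroup (Fin 2) F × Γ) ∉ Y) : Nat.card F * c ≤ Y.index := by
  classical
  -- a root group which meets `Y` trivially
  obtain ⟨r, hr, hrY⟩ : ∃ r : Multiplicative F →* SpecialLinearGroup (Fin 2) F, Function.Injective r ∧
      ∀ a, ((r a, 1) : SpecialLinearGroup (Fin 2) F × Γ) ∈ Y → a = 1 := by
    by_cases h : ∃ a : F, a ≠ 0 ∧ ((u a, 1) : SpecialLinearGroup (Fin 2) F × Γ) ∈ Y
    · obtain ⟨a, ha, haY⟩ := h
      refine ⟨lHom F, lHom_inj, ?_⟩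
      intro b hb
      by_contra hb1
      have hb0 : b.toAdd ≠ 0 := fun h0 => hb1 (Multiplicative.toAdd.injective h0)
      obtain ⟨A, hA, hA1⟩ := exists_neg_one (H := Y.comap (MonoidHom.inl (SpecialLinearGroup (Fin 2) F) Γ)) h2 ha hb0
        haY hb
      exact hY1 A hA1 hA
    · refine ⟨uHom F, uHom_inj, ?_⟩
      intro b hb
      by_contra hb1
      have hb0 : b.toAdd ≠ 0 := fun h0 => hb1 (Multiplicative.toAdd.injective h0)
      exact h ⟨b.toAdd, hb0, hb⟩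
  let j : Multiplicative F →* SpecialLinearGroup (Fin 2) F × Γ := (MonoidHom.inl _ _).comp r
  have hj : Function.Injective j := fun a b hab => hr (congrArg Prod.fst hab)
  have hcard : Nat.card j.range = Nat.card F := by
    rw [← Nat.card_congr (MonoidHom.ofInjective hj).toEquiv]
    rfl
  let Z : Set (SpecialLinearGroup (Fin 2) F × Γ) := {x | (x.1.1 = -1 ∧ x.2 = 1) ∨ (x.1 = 1 ∧ x.2 ∈ Z')}
  have key := Cfsg.Agent.H847.IF.abs_index (G := SpecialLinearGroup (Fin 2) F × Γ) (L := Γ) (MonoidHom.inr _ _)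
    j.range Y (by rw [hcard]; exact odd_card_of_two h2) (by
      rintro g _ ⟨a, rfl⟩
      refine ⟨a, ?_⟩
      apply Prod.ext
      · simp [j]
      · simp [j]) Z (by
      rintro ⟨A, g⟩ (⟨h3, h4⟩ | ⟨h3, h4⟩)
      · have h5 : A.1 = -1 := h3
        have h6 : g = 1 := h4
        apply Prod.ext
        · apply Subtype.ext
          change A.1 * A.1 = 1
          rw [h5]
          simp
        · change g * g = 1
          rw [h6, mul_one]
      · have h5 : A = 1 := h3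
        apply Prod.ext
        · change A * A = 1
          rw [h5, mul_one]
        · exact hZ2 g h4) (by
      rintro ⟨B, k⟩ ⟨A, g⟩ (⟨h3, h4⟩ | ⟨h3, h4⟩)
      · left
        have h5 : A.1 = -1 := h3
        have h6 : g = 1 := h4
        refine ⟨?_, ?_⟩
        · change B.1 * A.1 * (B⁻¹).1 = -1
          rw [h5, mul_neg, mul_one, neg_mul]
          have h7 : B.1 * (B⁻¹).1 = 1 := by
            have := congrArg Subtype.val (mul_inv_cancel B)
            exact this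
          rw [h7]
        · change k * g * k⁻¹ = 1
          rw [h6, mul_one, mul_inv_cancel]
      · right
        have h5 : A = 1 := h3
        refine ⟨?_, hZc k g h4⟩
        change B * A * B⁻¹ = 1
        rw [h5, mul_one, mul_inv_cancel]) (by
      rintro ⟨A, g⟩ (⟨h3, h4⟩ | ⟨h3, h4⟩)
      · have h6 : g = 1 := h4
        subst h6
        exact hY1 A h3
      · have h5 : A = 1 := h3
        subst h5
        exact hY2 g h4) c (by
      intro K hK
      refine hc K fun y hy hyZ => hK y hy (Or.inr ⟨rfl, hyZ⟩))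
  have hinf : Nat.card (Y ⊓ j.range : Subgroup (SpecialLinearGroup (Fin 2) F × Γ)) = 1 := by
    rw [Subgroup.card_eq_one, Subgroup.eq_bot_iff_forall]
    rintro _ ⟨hx, ⟨a, rfl⟩⟩
    have h3 : a = 1 := hrY a hx
    rw [h3, map_one]
  rw [hcard, hinf, one_mul] at key
  exact key

end SL2

/-! ### the radical of a totally singular line -/

section Heis

variable {e₁ f₁ e₂ f₂ : V}

/-- the space orthogonal to a quadruple -/
def D4 (Q : QuadraticForm F V) (e₁ f₁ e₂ f₂ : V) : Submodule F V := Dp Q e₁ f₁ ⊓ Dp Q e₂ f₂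

theorem mem_D4 {v : V} : v ∈ D4 Q e₁ f₁ e₂ f₂ ↔
    (polar Q e₁ v = 0 ∧ polar Q f₁ v = 0) ∧ (polar Q e₂ v = 0 ∧ polar Q f₂ v = 0) := Iff.rfl

/-- the elements of the radical -/
noncomputable def th (Q : QuadraticForm F V) (e₁ e₂ a b : V) (c : F) : ↥(E Q) :=
  S Q e₁ a * S Q e₂ b * S Q e₁ (c • e₂)

variable (h : Four Q e₁ f₁ e₂ f₂)

include h

theorem q_ce (c : F) : Q (c • e₂) = 0 := by rw [QuadraticMap.map_smul, h.h2.left, smul_zero]

theorem p_ce (c : F) : polar Q e₁ (c • e₂) = 0 := by rw [polar_smul_right, h.ee, smul_zero]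

theorem th_ap {a b : V} (ha : a ∈ D4 Q e₁ f₁ e₂ f₂) (hb : b ∈ D4 Q e₁ f₁ e₂ f₂) (c : F) (v : V) :
    ap (th Q e₁ e₂ a b c) v = v + polar Q e₁ v • a + polar Q e₂ v • b
      - (polar Q a v + Q a * polar Q e₁ v + (polar Q a b + c) * polar Q e₂ v) • e₁
      + (c * polar Q e₁ v - polar Q b v - Q b * polar Q e₂ v) • e₂ := by
  obtain ⟨p1, p2, p3, p4, p5, p6, p7, p8, p9, p10, p11, p12, p13, p14, p15, p16⟩ := h.pols
  obtain ⟨⟨a1, a2⟩, a3, a4⟩ := ha
  obtain ⟨⟨b1, b2⟩, b3, b4⟩ := hb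
  have a1' : polar Q a e₁ = 0 := by rw [polar_comm]; exact a1
  have a3' : polar Q a e₂ = 0 := by rw [polar_comm]; exact a3
  have b1' : polar Q b e₁ = 0 := by rw [polar_comm]; exact b1
  have b3' : polar Q b e₂ = 0 := by rw [polar_comm]; exact b3
  rw [th, ap_mul, ap_mul, S_ap' h.h1.left (p_ce h c) (q_ce h c), S_ap h.h2.left b3, S_ap h.h1.left a1]
  simp only [polar_add_right, polar_sub_right, polar_smul_right, polar_smul_left, smul_eq_mul, p1, p2, p3, p4, p5, p6,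
    p7, p8, p9, p10, p11, p12, p13, p14, p15, p16, a1, a2, a3, a4, b1, b2, b3, b4, a1', a3', b1', b3']
  module

theorem th_mul {a b a' b' : V} (ha : a ∈ D4 Q e₁ f₁ e₂ f₂) (hb : b ∈ D4 Q e₁ f₁ e₂ f₂)
    (ha' : a' ∈ D4 Q e₁ f₁ e₂ f₂) (hb' : b' ∈ D4 Q e₁ f₁ e₂ f₂) (c c' : F) :
    th Q e₁ e₂ a b c * th Q e₁ e₂ a' b' c' = th Q e₁ e₂ (a + a') (b + b') (c + c' - polar Q b a') := by
  obtain ⟨p1, p2, p3, p4, p5, p6, p7, p8, p9, p10, p11, p12, p13, p14, p15, p16⟩ := h.pols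
  apply ext_ap
  intro v
  rw [ap_mul, th_ap h ha' hb', th_ap h ha hb, th_ap h (add_mem ha ha') (add_mem hb hb')]
  obtain ⟨⟨a1, a2⟩, a3, a4⟩ := ha
  obtain ⟨⟨b1, b2⟩, b3, b4⟩ := hb
  obtain ⟨⟨c1, c2⟩, c3, c4⟩ := ha'
  obtain ⟨⟨d1, d2⟩, d3, d4⟩ := hb'
  have a1' : polar Q a e₁ = 0 := by rw [polar_comm]; exact a1
  have a3' : polar Q a e₂ = 0 := by rw [polar_comm]; exact a3
  have b1' : polar Q b e₁ = 0 := by rw [polar_comm]; exact b1
  have b3' : polar Q b e₂ = 0 := by rw [polar_comm]; exact b3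
  have s1 : polar Q a' b = polar Q b a' := polar_comm _ _ _
  have s2 : polar Q a b = polar Q b a := polar_comm _ _ _
  have s3 : polar Q a b' = polar Q b' a := polar_comm _ _ _
  have s4 : polar Q a' b' = polar Q b' a' := polar_comm _ _ _
  simp only [polar_add_right, polar_sub_right, polar_smul_right, polar_smul_left, polar_add_left, smul_eq_mul, p1, p2,
    p3, p4, p5, p6, p7, p8, p9, p10, p11, p12, p13, p14, p15, p16, a1, a2, a3, a4, b1, b2, b3, b4, a1', a3', b1', b3',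
    c1, c2, c3, c4, d1, d2, d3, d4, Q_add, s1, s2, s3, s4]
  module

theorem th_inj {a b a' b' : V} (ha : a ∈ D4 Q e₁ f₁ e₂ f₂) (hb : b ∈ D4 Q e₁ f₁ e₂ f₂)
    (ha' : a' ∈ D4 Q e₁ f₁ e₂ f₂) (hb' : b' ∈ D4 Q e₁ f₁ e₂ f₂) {c c' : F}
    (H : th Q e₁ e₂ a b c = th Q e₁ e₂ a' b' c') : a = a' ∧ b = b' ∧ c = c' := by
  obtain ⟨p1, p2, p3, p4, p5, p6, p7, p8, p9, p10, p11, p12, p13, p14, p15, p16⟩ := h.pols
  have e1 : ap (th Q e₁ e₂ a b c) f₁ = f₁ + a - Q a • e₁ + c • e₂ := by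
    rw [th_ap h ha hb, p5, p14, polar_comm Q a f₁, polar_comm Q b f₁, (mem_D4.1 ha).1.2, (mem_D4.1 hb).1.2]
    module
  have e1' : ap (th Q e₁ e₂ a' b' c') f₁ = f₁ + a' - Q a' • e₁ + c' • e₂ := by
    rw [th_ap h ha' hb', p5, p14, polar_comm Q a' f₁, polar_comm Q b' f₁, (mem_D4.1 ha').1.2, (mem_D4.1 hb').1.2]
    module
  have e2 : ap (th Q e₁ e₂ a b c) f₂ = f₂ + b - (polar Q a b + c) • e₁ - Q b • e₂ := by
    rw [th_ap h ha hb, p11, p7, polar_comm Q a f₂, polar_comm Q b f₂, (mem_D4.1 ha).2.2, (mem_D4.1 hb).2.2]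
    module
  have e2' : ap (th Q e₁ e₂ a' b' c') f₂ = f₂ + b' - (polar Q a' b' + c') • e₁ - Q b' • e₂ := by
    rw [th_ap h ha' hb', p11, p7, polar_comm Q a' f₂, polar_comm Q b' f₂, (mem_D4.1 ha').2.2, (mem_D4.1 hb').2.2]
    module
  have k1 : a - a' = (Q a - Q a') • e₁ - (c - c') • e₂ := by
    have : a - a' = (f₁ + a - Q a • e₁ + c • e₂) - (f₁ + a' - Q a' • e₁ + c' • e₂) +
        ((Q a - Q a') • e₁ - (c - c') • e₂) := by module
    rw [this, ← e1, ← e1', H]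
    module
  have k2 : b - b' = (polar Q a b + c - (polar Q a' b' + c')) • e₁ + (Q b - Q b') • e₂ := by
    have : b - b' = (f₂ + b - (polar Q a b + c) • e₁ - Q b • e₂) - (f₂ + b' - (polar Q a' b' + c') • e₁ - Q b' • e₂)
        + ((polar Q a b + c - (polar Q a' b' + c')) • e₁ + (Q b - Q b') • e₂) := by module
    rw [this, ← e2, ← e2', H]
    module
  have q1 : polar Q f₁ (a - a') = 0 := (mem_D4.1 (sub_mem ha ha')).1.2
  have q2 : polar Q f₂ (a - a') = 0 := (mem_D4.1 (sub_mem ha ha')).2.2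
  have q3 : polar Q f₁ (b - b') = 0 := (mem_D4.1 (sub_mem hb hb')).1.2
  have q4 : polar Q f₂ (b - b') = 0 := (mem_D4.1 (sub_mem hb hb')).2.2
  rw [k1, polar_sub_right, polar_smul_right, polar_smul_right, p6, p13, smul_eq_mul, smul_eq_mul, mul_one, mul_zero,
    sub_zero] at q1
  rw [k1, polar_sub_right, polar_smul_right, polar_smul_right, p12, p8, smul_eq_mul, smul_eq_mul, mul_one, mul_zero,
    zero_sub, neg_eq_zero] at q2
  rw [k2, polar_add_right, polar_smul_right, polar_smul_right, p6, p13, smul_eq_mul, smul_eq_mul, mul_one, mul_zero,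
    add_zero] at q3
  rw [k2, polar_add_right, polar_smul_right, polar_smul_right, p12, p8, smul_eq_mul, smul_eq_mul, mul_one, mul_zero,
    zero_add] at q4
  rw [q1, q2, zero_smul, zero_smul, sub_zero] at k1
  rw [q3, q4, zero_smul, zero_smul, add_zero] at k2
  exact ⟨sub_eq_zero.1 k1, sub_eq_zero.1 k2, sub_eq_zero.1 q2⟩

theorem th_zero : th Q e₁ e₂ 0 0 0 = 1 := by
  rw [th, S_zero, S_zero, zero_smul, S_zero, mul_one, mul_one]

theorem th_inv {a b : V} (ha : a ∈ D4 Q e₁ f₁ e₂ f₂) (hb : b ∈ D4 Q e₁ f₁ e₂ f₂) (c : F) :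
    (th Q e₁ e₂ a b c)⁻¹ = th Q e₁ e₂ (-a) (-b) (-c - polar Q b a) := by
  rw [inv_eq_iff_mul_eq_one, th_mul h ha hb (neg_mem ha) (neg_mem hb), add_neg_cancel, add_neg_cancel,
    polar_neg_right]
  have : c + (-c - polar Q b a) - -polar Q b a = 0 := by ring
  rw [this, th_zero h]

/-- the radical -/
noncomputable def RW (h : Four Q e₁ f₁ e₂ f₂) : Subgroup ↥(E Q) where
  carrier := {g | ∃ a ∈ D4 Q e₁ f₁ e₂ f₂, ∃ b ∈ D4 Q e₁ f₁ e₂ f₂, ∃ c : F, g = th Q e₁ e₂ a b c}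
  one_mem' := ⟨0, zero_mem _, 0, zero_mem _, 0, (th_zero h).symm⟩
  mul_mem' := by
    rintro _ _ ⟨a, ha, b, hb, c, rfl⟩ ⟨a', ha', b', hb', c', rfl⟩
    exact ⟨_, add_mem ha ha', _, add_mem hb hb', _, th_mul h ha hb ha' hb' c c'⟩
  inv_mem' := by
    rintro _ ⟨a, ha, b, hb, c, rfl⟩
    exact ⟨_, neg_mem ha, _, neg_mem hb, _, th_inv h ha hb c⟩

theorem mem_RW {g : ↥(E Q)} : g ∈ RW h ↔
    ∃ a ∈ D4 Q e₁ f₁ e₂ f₂, ∃ b ∈ D4 Q e₁ f₁ e₂ f₂, ∃ c : F, g = th Q e₁ e₂ a b c := Iff.rfl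

theorem S_comb {a : V} (ha : a ∈ D4 Q e₁ f₁ e₂ f₂) (x y : F) :
    S Q (x • e₁ + y • e₂) a = th Q e₁ e₂ (x • a) (y • a) (-(x * y * Q a)) := by
  obtain ⟨p1, p2, p3, p4, p5, p6, p7, p8, p9, p10, p11, p12, p13, p14, p15, p16⟩ := h.pols
  have hq : Q (x • e₁ + y • e₂) = 0 := by
    rw [Q_add, QuadraticMap.map_smul, QuadraticMap.map_smul, h.h1.left, h.h2.left, polar_smul_left,
      polar_smul_right, h.ee]
    simp
  have hp : polar Q (x • e₁ + y • e₂) a = 0 := by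
    rw [polar_add_left, polar_smul_left, polar_smul_left, (mem_D4.1 ha).1.1, (mem_D4.1 ha).2.1]
    simp
  apply ext_ap
  intro v
  rw [S_ap hq hp, th_ap h (Submodule.smul_mem _ _ ha) (Submodule.smul_mem _ _ ha)]
  simp only [polar_add_right, polar_sub_right, polar_smul_right, polar_smul_left, polar_add_left, smul_eq_mul,
    QuadraticMap.map_smul, polar_self']
  module

theorem th_eq {a b : V} (c : F) : th Q e₁ e₂ a b c = S Q e₁ a * S Q e₂ b * S Q e₁ (c • e₂) := rfl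

/-- the radical is normalised by `SL₂` -/
theorem conj_RW (M : SpecialLinearGroup (Fin 2) F) {g : ↥(E Q)} (hg : g ∈ RW h) :
    h.rhoE M * g * (h.rhoE M)⁻¹ ∈ RW h := by
  obtain ⟨a, ha, b, hb, c, rfl⟩ := hg
  have hD : ∀ v ∈ D4 Q e₁ f₁ e₂ f₂, ap (h.rhoE M) v = v := by
    intro v hv
    obtain ⟨⟨k1, k2⟩, k3, k4⟩ := hv
    exact h.rho_perp k1 k2 k3 k4 M
  have hE1 : ap (h.rhoE M) e₁ = M.1 0 0 • e₁ + M.1 1 0 • e₂ := h.rho_e1 M
  have hE2 : ap (h.rhoE M) e₂ = M.1 0 1 • e₁ + M.1 1 1 • e₂ := h.rho_e2 M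
  have h0 : h.rhoE M * th Q e₁ e₂ a b c * (h.rhoE M)⁻¹ = (h.rhoE M * S Q e₁ a * (h.rhoE M)⁻¹) *
      (h.rhoE M * S Q e₂ b * (h.rhoE M)⁻¹) * (h.rhoE M * S Q e₁ (c • e₂) * (h.rhoE M)⁻¹) := by
    rw [th]
    group
  rw [h0, S_conj, S_conj, S_conj, hD a ha, hD b hb, ap_smul, hE1, hE2, S_comb h ha, S_comb h hb]
  have h1 : S Q (M.1 0 0 • e₁ + M.1 1 0 • e₂) (c • (M.1 0 1 • e₁ + M.1 1 1 • e₂)) = th Q e₁ e₂ 0 0 c := by
    have hdet : M.1 0 0 * M.1 1 1 - M.1 0 1 * M.1 1 0 = 1 := by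
      have := M.2
      rwa [Matrix.det_fin_two] at this
    obtain ⟨p1, p2, p3, p4, p5, p6, p7, p8, p9, p10, p11, p12, p13, p14, p15, p16⟩ := h.pols
    have hq : Q (M.1 0 0 • e₁ + M.1 1 0 • e₂) = 0 := by
      rw [Q_add, QuadraticMap.map_smul, QuadraticMap.map_smul, h.h1.left, h.h2.left, polar_smul_left,
        polar_smul_right, h.ee]
      simp
    have hq' : Q (c • (M.1 0 1 • e₁ + M.1 1 1 • e₂)) = 0 := by
      rw [QuadraticMap.map_smul, Q_add, QuadraticMap.map_smul, QuadraticMap.map_smul, h.h1.left, h.h2.left,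
        polar_smul_left, polar_smul_right, h.ee]
      simp
    have hp : polar Q (M.1 0 0 • e₁ + M.1 1 0 • e₂) (c • (M.1 0 1 • e₁ + M.1 1 1 • e₂)) = 0 := by
      simp only [polar_add_right, polar_smul_right, polar_smul_left, polar_add_left, smul_eq_mul, p1, p3, p9, p10]
      ring
    apply ext_ap
    intro v
    rw [S_ap' hq hp hq', th_ap h (zero_mem _) (zero_mem _)]
    simp only [polar_add_right, polar_sub_right, polar_smul_right, polar_smul_left, polar_add_left, smul_eq_mul,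
      polar_zero_left, polar_zero_right, QuadraticMap.map_zero]
    match_scalars
    · ring
    · linear_combination (-c * polar Q e₂ v) * hdet
    · linear_combination (c * polar Q e₁ v) * hdet
  rw [h1]
  exact (RW h).mul_mem ((RW h).mul_mem ⟨_, Submodule.smul_mem _ _ ha, _, Submodule.smul_mem _ _ ha, _, rfl⟩
    ⟨_, Submodule.smul_mem _ _ hb, _, Submodule.smul_mem _ _ hb, _, rfl⟩) ⟨_, zero_mem _, _, zero_mem _, _, rfl⟩

end Heis

end Cfsg.Agent.H254.IF
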